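import Cfsg.Agent.H487.EP.Fr
import Cfsg.Agent.H487.EP.Wreath3
import Cfsg.Agent.H912.TensForm4
import Cfsg.Agent.H953.Sympl

/-!
# S3499: the matrices `b`, `c`, `p` for symplectic factors (helper487)
-/

set_option autoImplicit false
set_option linter.unusedSectionVars false

namespace Cfsg.Agent.H487.EP

open Matrix Subgroup Cfsg.Agent.H284 Cfsg.Agent.H419.EP Cfsg.Geo
open Cfsg.Agent.H919 (HermForm)
open scoped MatrixGroups Kronecker

variable {F : Type} [Field F] [Fintype F]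

/-! ### two-dimensional matrices -/

/-- a matrix of determinant one -/
def mk2 (a b c d : F) (h : a * d - b * c = 1) : GL (Fin 2) F where
  val := !![a, b; c, d]
  inv := !![d, -b; -c, a]
  val_inv := by
    ext i j
    fin_cases i <;> fin_cases j <;> simp [Matrix.mul_apply, Fin.sum_univ_two] <;>
      first | linear_combination h | linear_combination -h | ring
  inv_val := by
    ext i j
    fin_cases i <;> fin_cases j <;> simp [Matrix.mul_apply, Fin.sum_univ_two] <;>
      first | linear_combination h | linear_combination -h | ring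

theorem mk2_val (a b c d : F) (h : a * d - b * c = 1) : (mk2 a b c d h : Matrix (Fin 2) (Fin 2) F) = !![a, b; c, d] := rfl
theorem mk2_inv (a b c d : F) (h : a * d - b * c = 1) :
    (((mk2 a b c d h)⁻¹ : GL (Fin 2) F) : Matrix (Fin 2) (Fin 2) F) = !![d, -b; -c, a] := rfl

/-- the standard plane -/
def J2 (F : Type) [Field F] : Matrix (Fin 2) (Fin 2) F := !![0, 1; -1, 0]

theorem mk2_mem (a b c d : F) (h : a * d - b * c = 1) : mk2 a b c d h ∈ IsoG (J2 F) := by
  rw [mem_isoG, mk2_val, J2]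
  ext i j
  fin_cases i <;> fin_cases j <;> simp [Matrix.mul_apply, Fin.sum_univ_two] <;>
      first | linear_combination h | linear_combination -h | ring

/-- recognising commutators -/
theorem eq_comm_of {κ : Type} [Fintype κ] [DecidableEq κ] {u x y : GL κ F}
    (h : (u : Matrix κ κ F) * ((y : Matrix κ κ F) * (x : Matrix κ κ F)) = (x : Matrix κ κ F) * (y : Matrix κ κ F)) :
    u = x * y * x⁻¹ * y⁻¹ := by
  have h1 : u * (y * x) = x * y := Units.ext h
  rw [← h1]; group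

theorem mem_KG_of {κ : Type} [Fintype κ] [DecidableEq κ] {G : Matrix κ κ F} {u x y : GL κ F} (hx : x ∈ IsoG G)
    (hy : y ∈ IsoG G)
    (h : (u : Matrix κ κ F) * ((y : Matrix κ κ F) * (x : Matrix κ κ F)) = (x : Matrix κ κ F) * (y : Matrix κ κ F)) :
    u ∈ KG G := by
  rw [eq_comm_of h]
  exact comm_mem_KG hx hy

/-- root elements -/
theorem upper_mem {s : F} (hs0 : s ≠ 0) (hs : s ^ 2 ≠ 1) (y : F) : mk2 1 y 0 1 (by ring) ∈ KG (J2 F) := by
  have hs' : s ^ 2 - 1 ≠ 0 := sub_ne_zero.2 hs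
  refine mem_KG_of (x := mk2 s 0 0 s⁻¹ (by rw [mul_inv_cancel₀ hs0]; ring)) (y := mk2 1 (y / (s ^ 2 - 1)) 0 1 (by ring))
    (mk2_mem _ _ _ _ _) (mk2_mem _ _ _ _ _) ?_
  rw [mk2_val, mk2_val, mk2_val]
  ext i j
  fin_cases i <;> fin_cases j <;> simp [Matrix.mul_apply, Fin.sum_univ_two] <;> field_simp <;> ring

theorem lower_mem {s : F} (hs0 : s ≠ 0) (hs : s ^ 2 ≠ 1) (y : F) : mk2 1 0 y 1 (by ring) ∈ KG (J2 F) := by
  have hs' : s ^ 2 - 1 ≠ 0 := sub_ne_zero.2 hs
  refine mem_KG_of (x := mk2 s⁻¹ 0 0 s (by rw [inv_mul_cancel₀ hs0]; ring)) (y := mk2 1 0 (y / (s ^ 2 - 1)) 1 (by ring))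
    (mk2_mem _ _ _ _ _) (mk2_mem _ _ _ _ _) ?_
  rw [mk2_val, mk2_val, mk2_val]
  ext i j
  fin_cases i <;> fin_cases j <;> simp [Matrix.mul_apply, Fin.sum_univ_two] <;> field_simp <;> ring

theorem diag_mem {s : F} (hs0 : s ≠ 0) (hs : s ^ 2 ≠ 1) :
    mk2 s 0 0 s⁻¹ (by rw [mul_inv_cancel₀ hs0]; ring) ∈ KG (J2 F) := by
  have e : mk2 s 0 0 s⁻¹ (by rw [mul_inv_cancel₀ hs0]; ring) =
      mk2 1 s 0 1 (by ring) * mk2 1 0 (-s⁻¹) 1 (by ring) * mk2 1 s 0 1 (by ring) *
      (mk2 1 (-1) 0 1 (by ring) * mk2 1 0 1 1 (by ring) * mk2 1 (-1) 0 1 (by ring)) := by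
    apply Units.ext
    simp only [Units.val_mul, mk2_val]
    ext i j
    fin_cases i <;> fin_cases j <;> simp [Matrix.mul_apply, Fin.sum_univ_two] <;> field_simp <;>
      first | ring1 | (ring_nf; simp)
  rw [e]
  exact mul_mem (mul_mem (mul_mem (upper_mem hs0 hs _) (lower_mem hs0 hs _)) (upper_mem hs0 hs _))
    (mul_mem (mul_mem (upper_mem hs0 hs _) (lower_mem hs0 hs _)) (upper_mem hs0 hs _))

/-! ### subspaces -/

theorem subG_of {κ μ : Type} [Fintype κ] [DecidableEq κ] [Fintype μ] [DecidableEq μ] {G : Matrix κ κ F}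
    {J Ji : Matrix μ μ F} {R : Matrix κ μ F} {ε : F} (hε : ε * ε = 1) (hG : Gᵀ = ε • G) (hJ : Jᵀ = ε • J)
    (hJi : J * Ji = 1) (hR : Rᵀ * G * R = J) : SubG G J R (Ji * (Rᵀ * G)) where
  cr := by rw [Matrix.mul_assoc, hR, mul_eq_one_comm.1 hJi]
  rg := by rw [← Matrix.mul_assoc, hJi, Matrix.one_mul]
  gr := by
    have h1 : Jiᵀ * J = ε • 1 := by
      have h2 : J = ε • Jᵀ := by rw [hJ, smul_smul, hε, one_smul]
      rw [h2, Matrix.mul_smul, ← Matrix.transpose_mul, hJi, Matrix.transpose_one]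
    rw [Matrix.transpose_mul, Matrix.transpose_mul, Matrix.transpose_transpose, Matrix.mul_assoc, h1, Matrix.mul_smul,
      Matrix.mul_one, hG, Matrix.smul_mul, smul_smul, hε, one_smul]

theorem gram_pair {n : ℕ} {ε : F} {f : (Fin n → F) → (Fin n → F) → F} (hf : HermForm (RingEquiv.refl F) ε f)
    {μ : Type} [Fintype μ] [DecidableEq μ] (R : Matrix (Fin n) μ F) (a b : μ) :
    (Rᵀ * gramMatrix f * R) a b = f (fun i => R i a) (fun i => R i b) := by
  have h := H912.formOfGram_gramMatrix hf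
  have h1 := congrFun (congrFun h (fun i => R i a)) (fun i => R i b)
  rw [H912.formOfGram_eq_dotProduct] at h1
  rw [← h1, Matrix.mul_assoc]
  simp only [Matrix.mul_apply, Matrix.transpose_apply, dotProduct, mulVec]
  rfl

theorem gram_transpose {n : ℕ} {ε : F} {f : (Fin n → F) → (Fin n → F) → F} (hf : HermForm (RingEquiv.refl F) ε f) :
    (gramMatrix f)ᵀ = ε • gramMatrix f := by
  ext i j
  rw [Matrix.transpose_apply, Matrix.smul_apply, smul_eq_mul]
  exact hf.herm _ _

theorem herm_of_symp {n : ℕ} {f : (Fin n → F) → (Fin n → F) → F} (hf : IsSymplecticForm f) :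
    HermForm (RingEquiv.refl F) (-1) f :=
  ⟨hf.bilinear.add_left, hf.bilinear.smul_left, fun _ => rfl, by simp,
    fun v w => by rw [hf.skew v w]; simp, hf.nondegenerate⟩

theorem exists_sympl {n : ℕ} {f : (Fin n → F) → (Fin n → F) → F} (hf : IsSymplecticForm f) :
    ∃ (m : ℕ) (b : Module.Basis (Fin m ⊕ Fin m) F (Fin n → F)), 2 * m = n ∧
      (∀ i j, f (b (Sum.inl i)) (b (Sum.inr j)) = if i = j then 1 else 0) ∧
      (∀ i j, f (b (Sum.inl i)) (b (Sum.inl j)) = 0) ∧ (∀ i j, f (b (Sum.inr i)) (b (Sum.inr j)) = 0) := by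
  obtain ⟨m, b, h1, h2, h3⟩ := H953.exists_symplectic_basis (H953.toBil hf) (fun v => hf.alternating v) (by
    intro u hu
    by_contra hne
    obtain ⟨_, x, hx⟩ := hf.nondegenerate u hne
    exact hx (hu x))
  refine ⟨m, b, ?_, h1, h2, h3⟩
  have := Module.finrank_eq_card_basis b
  rw [Module.finrank_fin_fun, Fintype.card_sum, Fintype.card_fin] at this
  omega

theorem J2_transpose : (J2 F)ᵀ = (-1 : F) • J2 F := by
  rw [J2]
  ext i j
  fin_cases i <;> fin_cases j <;> simp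

theorem J2_inv : J2 F * !![0, -1; 1, 0] = 1 := by
  rw [J2]
  ext i j
  fin_cases i <;> fin_cases j <;> simp [Matrix.mul_apply, Fin.sum_univ_two]

/-- a hyperbolic plane -/
theorem exists_plane {n : ℕ} (hn : 2 ≤ n) {f : (Fin n → F) → (Fin n → F) → F} (hf : IsSymplecticForm f) :
    ∃ (R : Matrix (Fin n) (Fin 2) F) (C : Matrix (Fin 2) (Fin n) F), SubG (gramMatrix f) (J2 F) R C := by
  obtain ⟨m, b, hm, h1, h2, h3⟩ := exists_sympl hf
  have hm1 : 1 ≤ m := by omega
  let z : Fin m := ⟨0, by omega⟩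
  let v : Fin 2 → (Fin n → F) := ![b (Sum.inl z), b (Sum.inr z)]
  refine ⟨Matrix.of fun i a => v a i, _, subG_of (ε := -1) (by ring) (gram_transpose (herm_of_symp hf)) J2_transpose J2_inv ?_⟩
  ext a c
  rw [gram_pair (herm_of_symp hf)]
  change f (v a) (v c) = _
  have h4 : f (b (Sum.inr z)) (b (Sum.inl z)) = -1 := by rw [hf.skew, h1, if_pos rfl]
  fin_cases a <;> fin_cases c <;> simp [v, J2, h1, h2, h3, h4]

/-- the standard four-dimensional space -/
def J4 (F : Type) [Field F] : Matrix (Fin 2 ⊕ Fin 2) (Fin 2 ⊕ Fin 2) F := fromBlocks (J2 F) 0 0 (J2 F)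

theorem J4_transpose : (J4 F)ᵀ = (-1 : F) • J4 F := by
  rw [J4, fromBlocks_transpose, J2_transpose, fromBlocks_smul]
  simp

theorem J4_inv : J4 F * fromBlocks !![0, -1; 1, 0] 0 0 !![0, -1; 1, 0] = 1 := by
  rw [J4, fromBlocks_multiply, J2_inv]
  simp

/-- two orthogonal hyperbolic planes -/
theorem exists_four {n : ℕ} (hn : 4 ≤ n) {f : (Fin n → F) → (Fin n → F) → F} (hf : IsSymplecticForm f) :
    ∃ (R : Matrix (Fin n) (Fin 2 ⊕ Fin 2) F) (C : Matrix (Fin 2 ⊕ Fin 2) (Fin n) F),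
      SubG (gramMatrix f) (J4 F) R C := by
  obtain ⟨m, b, hm, h1, h2, h3⟩ := exists_sympl hf
  have hm1 : 2 ≤ m := by omega
  let z : Fin m := ⟨0, by omega⟩
  let z' : Fin m := ⟨1, by omega⟩
  have hzz : z ≠ z' := by simp [z, z', Fin.ext_iff]
  let v : Fin 2 ⊕ Fin 2 → (Fin n → F) := Sum.elim ![b (Sum.inl z), b (Sum.inr z)] ![b (Sum.inl z'), b (Sum.inr z')]
  refine ⟨Matrix.of fun i a => v a i, _, subG_of (ε := -1) (by ring) (gram_transpose (herm_of_symp hf)) J4_transpose J4_inv ?_⟩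
  ext a c
  rw [gram_pair (herm_of_symp hf)]
  change f (v a) (v c) = _
  have h4 : ∀ i j, f (b (Sum.inr i)) (b (Sum.inl j)) = if j = i then -1 else 0 := by
    intro i j
    rw [hf.skew, h1]
    split <;> simp
  rcases a with a | a <;> rcases c with c | c <;> fin_cases a <;> fin_cases c <;>
    simp [v, J4, J2, h1, h2, h3, h4, hzz, hzz.symm]

/-! ### the projection -/

theorem pp_symp {n : ℕ} (hn : 4 ≤ n) {f : (Fin n → F) → (Fin n → F) → F} (hf : IsSymplecticForm f) :
    PP (gramMatrix f) := by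
  obtain ⟨R, C, h⟩ := exists_four hn hf
  refine ⟨R * fromBlocks 1 0 0 0 * C, proj_idem h.cr ?_, proj_ne_zero h.cr ?_, proj_ne_one h.cr ?_, proj_adj h ?_⟩
  · rw [fromBlocks_multiply]; simp
  · intro h0
    have := congrFun (congrFun h0 (Sum.inl 0)) (Sum.inl 0)
    simp at this
  · intro h0
    have := congrFun (congrFun h0 (Sum.inr 0)) (Sum.inr 0)
    simp at this
  · rw [J4, fromBlocks_transpose, fromBlocks_multiply, fromBlocks_multiply]
    simp

/-! ### `b` and `c`, at least four elements -/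

/-- a nilpotent matrix -/
def E12 (F : Type) [Field F] : Matrix (Fin 2) (Fin 2) F := !![0, 1; 0, 0]

theorem E12_sq : E12 F * E12 F = 0 := by
  rw [E12]
  ext i j
  fin_cases i <;> fin_cases j <;> simp [Matrix.mul_apply, Fin.sum_univ_two]

theorem bb_big {n : ℕ} (hn : 2 ≤ n) (hF : 4 ≤ Fintype.card F) {f : (Fin n → F) → (Fin n → F) → F}
    (hf : IsSymplecticForm f) : BB (gramMatrix f) := by
  classical
  obtain ⟨R, C, h⟩ := exists_plane hn hf
  obtain ⟨s, hs0, hs⟩ : ∃ s : F, s ≠ 0 ∧ s ^ 2 ≠ 1 := by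
    by_contra hcon
    push Not at hcon
    have h1 : (Finset.univ : Finset F) ⊆ {0, 1, -1} := by
      intro s _
      by_cases h0 : s = 0
      · simp [h0]
      · have h2 : (s - 1) * (s + 1) = 0 := by linear_combination hcon s h0
        rcases mul_eq_zero.1 h2 with h3 | h3
        · have : s = 1 := by linear_combination h3
          simp [this]
        · have : s = -1 := by linear_combination h3
          simp [this]
    have h2 := Finset.card_le_card h1
    rw [Finset.card_univ] at h2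
    have h3 : Finset.card ({0, 1, -1} : Finset F) ≤ 3 := Finset.card_le_three
    omega
  let u : GL (Fin 2) F := mk2 1 1 0 1 (by ring)
  let t : GL (Fin 2) F := mk2 s 0 0 s⁻¹ (by rw [mul_inv_cancel₀ hs0]; ring)
  let N : Matrix (Fin n) (Fin n) F := R * E12 F * C
  have hN0 : N ≠ 0 := by
    intro h0
    have h1 := proj_compress h.cr (E12 F)
    change C * N * R = _ at h1
    rw [h0, Matrix.mul_zero, Matrix.zero_mul] at h1
    have := congrFun (congrFun h1 0) 1
    simp [E12] at this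
  have hNN : N * N = 0 := by
    calc N * N = R * E12 F * (C * R) * E12 F * C := by simp only [N, Matrix.mul_assoc]
      _ = R * (E12 F * E12 F) * C := by rw [h.cr, Matrix.mul_one]; simp only [Matrix.mul_assoc]
      _ = 0 := by rw [E12_sq, Matrix.mul_zero, Matrix.zero_mul]
  have hu : (TU h.cr u : Matrix (Fin n) (Fin n) F) = 1 + N := by
    rw [TU_val, TT_apply]
    have : (u : Matrix (Fin 2) (Fin 2) F) - 1 = E12 F := by
      rw [mk2_val, E12]
      ext i j
      fin_cases i <;> fin_cases j <;> simp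
    rw [this]
  have hui : (((TU h.cr u)⁻¹ : GL (Fin n) F) : Matrix (Fin n) (Fin n) F) = 1 - N := by
    rw [TU_inv_val, TT_apply]
    have : ((u⁻¹ : GL (Fin 2) F) : Matrix (Fin 2) (Fin 2) F) - 1 = -E12 F := by
      rw [mk2_inv, E12]
      ext i j
      fin_cases i <;> fin_cases j <;> simp
    rw [this, Matrix.mul_neg, Matrix.neg_mul, ← sub_eq_add_neg]
  have hct : cjm (TU h.cr t) N = s ^ 2 • N := by
    have e1 : (TU h.cr t : Matrix (Fin n) (Fin n) F) * R = R * !![s, 0; 0, s⁻¹] := TT_mul_R _ _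
    have e2 : C * (((TU h.cr t)⁻¹ : GL (Fin n) F) : Matrix (Fin n) (Fin n) F) = !![s⁻¹, -0; -0, s] * C := by
      rw [TU_inv_val]
      exact C_mul_TT _ _
    have e3 : (!![s, 0; 0, s⁻¹] * (E12 F * !![s⁻¹, -0; -0, s]) : Matrix (Fin 2) (Fin 2) F) = s ^ 2 • E12 F := by
      rw [E12]
      ext i j
      fin_cases i <;> fin_cases j <;> simp [Matrix.mul_apply, Fin.sum_univ_two] <;> ring
    calc cjm (TU h.cr t) N = ((TU h.cr t : Matrix (Fin n) (Fin n) F) * R) * E12 F *
          (C * (((TU h.cr t)⁻¹ : GL (Fin n) F) : Matrix (Fin n) (Fin n) F)) := by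
          simp only [cjm, N, Matrix.mul_assoc]
      _ = R * (!![s, 0; 0, s⁻¹] * (E12 F * !![s⁻¹, -0; -0, s])) * C := by
          rw [e1, e2]; simp only [Matrix.mul_assoc]
      _ = _ := by rw [e3, Matrix.mul_smul, Matrix.smul_mul]
  refine ⟨TU h.cr u, TU h.cr t, TU_mem_KG h (upper_mem hs0 hs _), TU_mem_KG h (diag_mem hs0 hs), ?_, ?_⟩
  · rw [hu, hui]
    exact BC.of_nil hNN hN0 (pow_ne_zero 2 hs0) hs hct
  · intro k l q hq
    rw [hu]
    exact unip_ne ⟨2, by rw [pow_two, hNN]⟩ hN0 k l q hq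

end Cfsg.Agent.H487.EP
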