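import Cfsg.Agent.H487.EP.DataSp

/-!
# S3499: the matrices `b`, `c`, `p` for symmetric factors (helper487)
-/

set_option autoImplicit false
set_option linter.unusedSectionVars false

namespace Cfsg.Agent.H487.EP

open Matrix Subgroup Cfsg.Agent.H284 Cfsg.Agent.H419.EP Cfsg.Geo
open Cfsg.Agent.H919 (HermForm)
open scoped MatrixGroups Kronecker

variable {F : Type} [Field F] [Fintype F]

theorem binary_univ (h2 : (2 : F) ≠ 0) {a b : F} (ha : a ≠ 0) (hb : b ≠ 0) (d : F) :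
    ∃ x y : F, a * x ^ 2 + b * y ^ 2 = d := by
  have hchar : ringChar F ≠ 2 := by
    intro h
    have h5 : ((2 : ℕ) : F) = 0 := by rw [← h]; exact ringChar.Nat.cast_ringChar
    exact h2 (by exact_mod_cast h5)
  obtain ⟨x, y, hxy⟩ := FiniteField.exists_root_sum_quadratic
    (f := Polynomial.C a * Polynomial.X ^ 2 + Polynomial.C (-d)) (g := Polynomial.C b * Polynomial.X ^ 2)
    (by compute_degree!) (by compute_degree!) (FiniteField.odd_card_of_char_ne_two hchar)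
  simp only [Polynomial.eval_add, Polynomial.eval_mul, Polynomial.eval_C, Polynomial.eval_pow,
    Polynomial.eval_X] at hxy
  exact ⟨x, y, by linear_combination hxy⟩

/-- three orthogonal vectors of the same norm -/
theorem exists_three {n : ℕ} (hn : 3 ≤ n) (h2 : (2 : F) ≠ 0) {f : (Fin n → F) → (Fin n → F) → F}
    (hf : IsSymmetricForm f) : ∃ (k : F) (v : Fin 3 → (Fin n → F)), k ≠ 0 ∧ ∀ i j, f (v i) (v j) = if i = j then k else 0 := by
  let B : LinearMap.BilinForm F (Fin n → F) := LinearMap.mk₂ F f hf.bilinear.add_left hf.bilinear.smul_left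
    hf.bilinear.add_right (fun c m n => hf.bilinear.smul_right c m n)
  have hBf : ∀ x y, B x y = f x y := fun x y => rfl
  have hBs : LinearMap.IsSymm B := ⟨fun x y => hf.symm x y⟩
  have : Invertible (2 : F) := invertibleOfNonzero h2
  obtain ⟨v, hv⟩ := LinearMap.BilinForm.exists_orthogonal_basis hBs
  have hd : Module.finrank F (Fin n → F) = n := Module.finrank_fin_fun F
  have hsep : LinearMap.SeparatingLeft B := fun x hx => by
    by_contra hne
    obtain ⟨_, y, hy⟩ := hf.nondegenerate x hne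
    exact hy (hx y)
  have hne : ∀ i, B (v i) (v i) ≠ 0 := fun i => hv.not_isOrtho_basis_self_of_separatingLeft hsep i
  have hor : ∀ i j, i ≠ j → B (v i) (v j) = 0 := fun i j hij => hv hij
  let φ : Fin 3 → Fin (Module.finrank F (Fin n → F)) := fun i => ⟨i.1, by rw [hd]; omega⟩
  have hφ : ∀ i j, i ≠ j → φ i ≠ φ j := fun i j hij h => hij (Fin.ext (by
    have := congrArg Fin.val h
    simpa [φ] using this))
  set v0 := v (φ 0) with hv0
  set v1 := v (φ 1) with hv1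
  set v2 := v (φ 2) with hv2
  set a := f v0 v0 with ha
  set b := f v1 v1 with hb
  set c := f v2 v2 with hc
  have ha0 : a ≠ 0 := hne _
  have hb0 : b ≠ 0 := hne _
  have hc0 : c ≠ 0 := hne _
  have h01 : f v0 v1 = 0 := hor _ _ (hφ _ _ (by decide))
  have h02 : f v0 v2 = 0 := hor _ _ (hφ _ _ (by decide))
  have h12 : f v1 v2 = 0 := hor _ _ (hφ _ _ (by decide))
  have h10 : f v1 v0 = 0 := by rw [hf.symm, h01]
  have h20 : f v2 v0 = 0 := by rw [hf.symm, h02]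
  have h21 : f v2 v1 = 0 := by rw [hf.symm, h12]
  have hB := hf.bilinear
  obtain ⟨x, y, hxy⟩ := binary_univ h2 ha0 hb0 (a * b * c)
  obtain ⟨z, w, hzw⟩ := binary_univ h2 hc0 hc0 (a * b * c)
  -- `w1 = x v0 + y v1`, `w2 = (ab)⁻¹ (-b y v0 + a x v1)`, `w3 = z w2 + w v2`, `w4 = -w w2 + z v2`
  let w1 : Fin n → F := x • v0 + y • v1
  let w2 : Fin n → F := (-(a⁻¹ * y)) • v0 + (b⁻¹ * x) • v1
  have e11 : f w1 w1 = a * b * c := by
    simp only [w1, hB.add_left, hB.add_right, hB.smul_left, hB.smul_right, h01, h10, ← ha, ← hb]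
    linear_combination hxy
  have e12 : f w1 w2 = 0 := by
    simp only [w1, w2, hB.add_left, hB.add_right, hB.smul_left, hB.smul_right, h01, h10, ← ha, ← hb]
    field_simp
    ring
  have e22 : f w2 w2 = c := by
    simp only [w2, hB.add_left, hB.add_right, hB.smul_left, hB.smul_right, h01, h10, ← ha, ← hb]
    field_simp
    linear_combination hxy
  have e1v : f w1 v2 = 0 := by
    simp only [w1, hB.add_left, hB.smul_left, h02, h12]; ring
  have e2v : f w2 v2 = 0 := by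
    simp only [w2, hB.add_left, hB.smul_left, h02, h12]; ring
  have ev2 : f v2 w2 = 0 := by rw [hf.symm, e2v]
  let w3 : Fin n → F := z • w2 + w • v2
  let w4 : Fin n → F := (-w) • w2 + z • v2
  have e13 : f w1 w3 = 0 := by
    simp only [w3, hB.add_right, hB.smul_right, e12, e1v]; ring
  have e14 : f w1 w4 = 0 := by
    simp only [w4, hB.add_right, hB.smul_right, e12, e1v]; ring
  have e33 : f w3 w3 = a * b * c := by
    simp only [w3, hB.add_left, hB.add_right, hB.smul_left, hB.smul_right, e22, e2v, ev2, ← hc]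
    linear_combination hzw
  have e44 : f w4 w4 = a * b * c := by
    simp only [w4, hB.add_left, hB.add_right, hB.smul_left, hB.smul_right, e22, e2v, ev2, ← hc]
    linear_combination hzw
  have e34 : f w3 w4 = 0 := by
    simp only [w3, w4, hB.add_left, hB.add_right, hB.smul_left, hB.smul_right, e22, e2v, ev2, ← hc]
    ring
  have e31 : f w3 w1 = 0 := by rw [hf.symm, e13]
  have e41 : f w4 w1 = 0 := by rw [hf.symm, e14]
  have e43 : f w4 w3 = 0 := by rw [hf.symm, e34]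
  refine ⟨a * b * c, ![w1, w3, w4], mul_ne_zero (mul_ne_zero ha0 hb0) hc0, ?_⟩
  intro i j
  fin_cases i <;> fin_cases j <;> simp [e11, e13, e14, e31, e33, e34, e41, e43, e44]

/-- the standard three-dimensional space -/
def J3 (k : F) : Matrix (Fin 3) (Fin 3) F := k • 1

theorem herm_of_symm {n : ℕ} {f : (Fin n → F) → (Fin n → F) → F} (hf : IsSymmetricForm f) :
    HermForm (RingEquiv.refl F) 1 f :=
  ⟨hf.bilinear.add_left, hf.bilinear.smul_left, fun _ => rfl, by simp,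
    fun v w => by rw [hf.symm v w]; simp, hf.nondegenerate⟩

theorem exists_sub3 {n : ℕ} (hn : 3 ≤ n) (h2 : (2 : F) ≠ 0) {f : (Fin n → F) → (Fin n → F) → F}
    (hf : IsSymmetricForm f) : ∃ (k : F) (R : Matrix (Fin n) (Fin 3) F) (C : Matrix (Fin 3) (Fin n) F),
      k ≠ 0 ∧ SubG (gramMatrix f) (J3 k) R C := by
  obtain ⟨k, v, hk, hv⟩ := exists_three hn h2 hf
  refine ⟨k, Matrix.of fun i a => v a i, _, hk, subG_of (ε := 1) (Ji := k⁻¹ • 1) (by ring)
    (gram_transpose (herm_of_symm hf)) ?_ ?_ ?_⟩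
  · rw [J3, Matrix.transpose_smul, Matrix.transpose_one, one_smul]
  · rw [J3, Matrix.smul_mul, Matrix.mul_smul, Matrix.mul_one, smul_smul, mul_inv_cancel₀ hk, one_smul]
  · ext a c
    rw [gram_pair (herm_of_symm hf)]
    change f (v a) (v c) = _
    rw [hv, J3, Matrix.smul_apply, Matrix.one_apply]
    split <;> simp

/-- orthogonal matrices of degree three -/
def mk3 (a b : Matrix (Fin 3) (Fin 3) F) (h : a * b = 1) : GL (Fin 3) F where
  val := a
  inv := b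
  val_inv := h
  inv_val := mul_eq_one_comm.1 h

theorem mk3_mem {k : F} {a : Matrix (Fin 3) (Fin 3) F} (h : a * aᵀ = 1) : mk3 a aᵀ h ∈ IsoG (J3 k) := by
  rw [mem_isoG]
  change aᵀ * J3 k * a = J3 k
  rw [J3, Matrix.mul_smul, Matrix.smul_mul, Matrix.mul_one, mul_eq_one_comm.1 h]

/-- signed permutation matrices -/
def rot : Matrix (Fin 3) (Fin 3) F := !![0, -1, 0; 1, 0, 0; 0, 0, 1]
/-- diagonal -/
def dg (a b c : F) : Matrix (Fin 3) (Fin 3) F := !![a, 0, 0; 0, b, 0; 0, 0, c]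
/-- swap -/
def s12 : Matrix (Fin 3) (Fin 3) F := !![0, 1, 0; 1, 0, 0; 0, 0, 1]
/-- swap -/
def s23 : Matrix (Fin 3) (Fin 3) F := !![1, 0, 0; 0, 0, 1; 0, 1, 0]

theorem rot_o : (rot : Matrix (Fin 3) (Fin 3) F) * rotᵀ = 1 := by
  rw [rot]; ext i j; fin_cases i <;> fin_cases j <;> simp [Matrix.mul_apply, Fin.sum_univ_three]
theorem s12_o : (s12 : Matrix (Fin 3) (Fin 3) F) * s12ᵀ = 1 := by
  rw [s12]; ext i j; fin_cases i <;> fin_cases j <;> simp [Matrix.mul_apply, Fin.sum_univ_three]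
theorem s23_o : (s23 : Matrix (Fin 3) (Fin 3) F) * s23ᵀ = 1 := by
  rw [s23]; ext i j; fin_cases i <;> fin_cases j <;> simp [Matrix.mul_apply, Fin.sum_univ_three]
theorem d2_o : (dg 1 (-1) 1 : Matrix (Fin 3) (Fin 3) F) * (dg 1 (-1) 1)ᵀ = 1 := by
  rw [dg]; ext i j; fin_cases i <;> fin_cases j <;> simp [Matrix.mul_apply, Fin.sum_univ_three]
theorem d12_o : (dg (-1) (-1) 1 : Matrix (Fin 3) (Fin 3) F) * (dg (-1) (-1) 1)ᵀ = 1 := by
  rw [dg]; ext i j; fin_cases i <;> fin_cases j <;> simp [Matrix.mul_apply, Fin.sum_univ_three]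
theorem d23_o : (dg 1 (-1) (-1) : Matrix (Fin 3) (Fin 3) F) * (dg 1 (-1) (-1))ᵀ = 1 := by
  rw [dg]; ext i j; fin_cases i <;> fin_cases j <;> simp [Matrix.mul_apply, Fin.sum_univ_three]

/-- **symmetric factors** -/
theorem good_sym (h2 : (2 : F) ≠ 0) {ι : Type} [Fintype ι] [DecidableEq ι] {n₁ n₂ : ℕ} (hn₁ : 3 ≤ n₁) (hn₂ : 3 ≤ n₂)
    {f₁ : (Fin n₁ → F) → (Fin n₁ → F) → F} {f₂ : (Fin n₂ → F) → (Fin n₂ → F) → F} (hf₁ : IsSymmetricForm f₁)
    (hf₂ : IsSymmetricForm f₂) {Qf : (ι → F) → F} {s : Matrix (Fin n₁) (Fin n₁) F →ₐ[F] Matrix ι ι F}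
    {r : Matrix (Fin n₂) (Fin n₂) F →ₐ[F] Matrix ι ι F} (h : Fr Qf s r (gramMatrix f₁) (gramMatrix f₂)) :
    Good Qf s r := by
  obtain ⟨k₁, R₁, C₁, hk₁, h₁⟩ := exists_sub3 hn₁ h2 hf₁
  obtain ⟨k₂, R₂, C₂, hk₂, h₂⟩ := exists_sub3 hn₂ h2 hf₂
  let b : GL (Fin 3) F := mk3 rot rotᵀ rot_o
  let c : GL (Fin 3) F := mk3 (dg 1 (-1) (-1)) (dg 1 (-1) (-1))ᵀ d23_o
  let σ : GL (Fin 3) F := mk3 s12 s12ᵀ s12_o
  have hbb : b * b = mk3 (dg (-1) (-1) 1) (dg (-1) (-1) 1)ᵀ d12_o := by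
    apply Units.ext
    change rot * rot = dg (-1) (-1) 1
    rw [rot, dg]; ext i j; fin_cases i <;> fin_cases j <;> simp [Matrix.mul_apply, Fin.sum_univ_three]
  have hbb2 : b * b ∈ KG (J3 k₂) := by
    rw [hbb]
    refine mem_KG_of (x := mk3 (dg 1 (-1) 1) (dg 1 (-1) 1)ᵀ d2_o) (y := mk3 s12 s12ᵀ s12_o) (mk3_mem _) (mk3_mem _) ?_
    change dg (-1) (-1) 1 * (s12 * dg 1 (-1) 1) = dg 1 (-1) 1 * s12
    rw [s12, dg, dg]; ext i j; fin_cases i <;> fin_cases j <;> simp [Matrix.mul_apply, Fin.sum_univ_three]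
  have hc2 : c ∈ KG (J3 k₂) := by
    refine mem_KG_of (x := mk3 (dg 1 (-1) 1) (dg 1 (-1) 1)ᵀ d2_o) (y := mk3 s23 s23ᵀ s23_o) (mk3_mem _) (mk3_mem _) ?_
    change dg 1 (-1) (-1) * (s23 * dg 1 (-1) 1) = dg 1 (-1) 1 * s23
    rw [s23, dg, dg]; ext i j; fin_cases i <;> fin_cases j <;> simp [Matrix.mul_apply, Fin.sum_univ_three]
  have hcb : (c : Matrix (Fin 3) (Fin 3) F) * (b : Matrix (Fin 3) (Fin 3) F) * ((c⁻¹ : GL (Fin 3) F) : Matrix (Fin 3) (Fin 3) F) =
      ((b⁻¹ : GL (Fin 3) F) : Matrix (Fin 3) (Fin 3) F) := by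
    change dg 1 (-1) (-1) * rot * (dg 1 (-1) (-1))ᵀ = rotᵀ
    rw [rot, dg]; ext i j; fin_cases i <;> fin_cases j <;> simp [Matrix.mul_apply, Fin.sum_univ_three]
  have hns : NonSc ((b : Matrix (Fin 3) (Fin 3) F) * (b : Matrix (Fin 3) (Fin 3) F)) := by
    intro k hk
    rw [← Units.val_mul, hbb] at hk
    change dg (-1) (-1) 1 = k • (1 : Matrix (Fin 3) (Fin 3) F) at hk
    have e0 := congrFun (congrFun hk 0) 0
    have e2 := congrFun (congrFun hk 2) 2
    simp [dg] at e0 e2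
    apply h2
    linear_combination e2 - e0
  -- the projections
  have hE1 : (dg 1 0 0 : Matrix (Fin 3) (Fin 3) F) * dg 1 0 0 = dg 1 0 0 := by
    rw [dg]; ext i j; fin_cases i <;> fin_cases j <;> simp [Matrix.mul_apply, Fin.sum_univ_three]
  have hE2 : (dg 0 1 0 : Matrix (Fin 3) (Fin 3) F) * dg 0 1 0 = dg 0 1 0 := by
    rw [dg]; ext i j; fin_cases i <;> fin_cases j <;> simp [Matrix.mul_apply, Fin.sum_univ_three]
  have hE12 : (dg 1 0 0 : Matrix (Fin 3) (Fin 3) F) * dg 0 1 0 = 0 := by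
    rw [dg, dg]; ext i j; fin_cases i <;> fin_cases j <;> simp [Matrix.mul_apply, Fin.sum_univ_three]
  have hE21 : (dg 0 1 0 : Matrix (Fin 3) (Fin 3) F) * dg 1 0 0 = 0 := by
    rw [dg, dg]; ext i j; fin_cases i <;> fin_cases j <;> simp [Matrix.mul_apply, Fin.sum_univ_three]
  have hmul : ∀ X Y : Matrix (Fin 3) (Fin 3) F, R₁ * X * C₁ * (R₁ * Y * C₁) = R₁ * (X * Y) * C₁ := by
    intro X Y
    calc R₁ * X * C₁ * (R₁ * Y * C₁) = R₁ * X * (C₁ * R₁) * Y * C₁ := by simp only [Matrix.mul_assoc]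
      _ = _ := by rw [h₁.cr, Matrix.mul_one]; simp only [Matrix.mul_assoc]
  have hsum : R₁ * (dg 1 0 0 : Matrix (Fin 3) (Fin 3) F) * C₁ + R₁ * (dg 0 1 0 : Matrix (Fin 3) (Fin 3) F) * C₁ = R₁ * (dg 1 1 0 : Matrix (Fin 3) (Fin 3) F) * C₁ := by
    rw [← Matrix.add_mul, ← Matrix.mul_add]
    congr 2
    rw [dg, dg, dg]; ext i j; fin_cases i <;> fin_cases j <;> simp
  have hE0 : (dg 1 1 0 : Matrix (Fin 3) (Fin 3) F) ≠ 0 := by
    intro h0
    have := congrFun (congrFun h0 0) 0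
    simp [dg] at this
  have hE1' : (dg 1 1 0 : Matrix (Fin 3) (Fin 3) F) ≠ 1 := by
    intro h0
    have := congrFun (congrFun h0 2) 2
    simp [dg] at this
  have hσp : cjm (TU h₁.cr σ) (R₁ * (dg 1 0 0 : Matrix (Fin 3) (Fin 3) F) * C₁) = R₁ * (dg 0 1 0 : Matrix (Fin 3) (Fin 3) F) * C₁ := by
    have e1 : (TU h₁.cr σ : Matrix (Fin n₁) (Fin n₁) F) * R₁ = R₁ * s12 := TT_mul_R _ _
    have e2 : C₁ * (((TU h₁.cr σ)⁻¹ : GL (Fin n₁) F) : Matrix (Fin n₁) (Fin n₁) F) = s12ᵀ * C₁ := by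
      rw [TU_inv_val]
      exact C_mul_TT _ _
    have e3 : (s12 * (dg 1 0 0 * s12ᵀ) : Matrix (Fin 3) (Fin 3) F) = dg 0 1 0 := by
      have hst : (s12 : Matrix (Fin 3) (Fin 3) F)ᵀ = s12 := by
        rw [s12]; ext i j; fin_cases i <;> fin_cases j <;> simp
      rw [hst, s12, dg, dg]
      ext i j
      fin_cases i <;> fin_cases j <;> simp [Matrix.mul_apply, Fin.sum_univ_three]
    calc cjm (TU h₁.cr σ) (R₁ * (dg 1 0 0 : Matrix (Fin 3) (Fin 3) F) * C₁) = ((TU h₁.cr σ : Matrix (Fin n₁) (Fin n₁) F) * R₁) * (dg 1 0 0 : Matrix (Fin 3) (Fin 3) F) *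
          (C₁ * (((TU h₁.cr σ)⁻¹ : GL (Fin n₁) F) : Matrix (Fin n₁) (Fin n₁) F)) := by
          simp only [cjm, Matrix.mul_assoc]
      _ = R₁ * (s12 * ((dg 1 0 0 : Matrix (Fin 3) (Fin 3) F) * s12ᵀ)) * C₁ := by
          rw [e1, e2]
          simp only [Matrix.mul_assoc]
          exact Matrix.mul_assoc _ _ _
      _ = _ := by rw [e3]
  refine h.good_two (p₁ := R₁ * (dg 1 0 0 : Matrix (Fin 3) (Fin 3) F) * C₁) (p₂ := R₁ * (dg 0 1 0 : Matrix (Fin 3) (Fin 3) F) * C₁) (proj_idem h₁.cr hE1) (proj_idem h₁.cr hE2)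
    (by rw [hmul, hE12, Matrix.mul_zero, Matrix.zero_mul]) (by rw [hmul, hE21, Matrix.mul_zero, Matrix.zero_mul])
    (by rw [hsum]; exact proj_ne_zero h₁.cr hE0) (by rw [hsum]; exact proj_ne_one h₁.cr hE1')
    (proj_adj h₁ ?_) (TU_mem h₁ (A := σ) (mk3_mem _)) hσp (b := TU h₂.cr b) (c := TU h₂.cr c) (TU_mem h₂ (mk3_mem _)) ?_
    (TU_mem_KG h₂ hc2) (BC_TU h₂.cr hcb hns) ?_
  · rw [J3, Matrix.mul_smul, Matrix.smul_mul, Matrix.mul_one, Matrix.one_mul]
    congr 1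
    rw [dg]; ext i j; fin_cases i <;> fin_cases j <;> simp
  · rw [← map_mul]
    exact TU_mem_KG h₂ hbb2
  · intro k l q hq
    rw [TU_val]
    refine TT_hR h₂.cr ?_ k l q hq
    intro k l h0
    change (rot - k • (1 : Matrix (Fin 3) (Fin 3) F)) * (rot - l • 1) = 0 at h0
    rw [rot] at h0
    have e00 := congrFun (congrFun h0 0) 0
    have e01 := congrFun (congrFun h0 0) 1
    have e22 := congrFun (congrFun h0 2) 2
    simp [Matrix.mul_apply, Fin.sum_univ_three, Matrix.one_apply] at e00 e01 e22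
    apply h2
    have e22' : (1 - k) * (1 - l) = 0 := by
      rcases e22 with h | h
      · rw [h, zero_mul]
      · rw [h, mul_zero]
    linear_combination e22' - e00 + e01

end Cfsg.Agent.H487.EP
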